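import Groth.Agent.H9Misc.FlatTwist
import Groth.Agent.PBlow.Sect
import Groth.Agent.QCoh.Qcqs

/-!
Global tensors of a push forward with an invertible module give the global tensors upstairs.
-/

set_option autoImplicit false
set_option linter.style.haveILetI false
set_option backward.isDefEq.respectTransparency false
set_option backward.isDefEq.respectTransparency.types false

universe u

open CategoryTheory CategoryTheory.Limits AlgebraicGeometry TopologicalSpace Opposite
open Groth.Agent.AModX Groth.Agent.H9Misc.FlatTwist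

noncomputable section

namespace Groth.Agent.MulSect

/-- The subgroup spanned by tensors of global sections. -/
def span {X : Scheme.{u}} (M N : X.Modules) (S : Set Γ(N, ⊤)) : AddSubgroup Γ(CohB1.tensorMod M N, ⊤) :=
  AddSubgroup.closure (Set.range fun p : Γ(M, ⊤) × S => InvX.tmul p.1 p.2.1)

variable {X Y : Scheme.{u}} (g : X ⟶ Y) (N : X.Modules) {P : Y.Modules}

/-- A section of the push forward, as a section upstairs. -/
abbrev up {U : Y.Opens} (t : Γ((Scheme.Modules.pushforward g).obj N, U)) : Γ(N, g ⁻¹ᵁ U) := t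

/-- The local image of a section of `g_* N ⊗ P`. -/
def Rel (w : Γ(CohB1.tensorMod ((Scheme.Modules.pushforward g).obj N) P, ⊤))
    (z : Γ(CohB1.tensorMod N ((Scheme.Modules.pullback g).obj P), ⊤)) : Prop :=
  ∀ (U : Y.Opens) (e : Γ(P, U)), InvX.IsFrame e →
    ∀ t : Γ((Scheme.Modules.pushforward g).obj N, U),
      res _ (le_top : U ≤ ⊤) w = InvX.tmul t e →
      res _ (le_top : g ⁻¹ᵁ U ≤ ⊤) z = InvX.tmul (up g N t) (QCoh.pullSec g P le_rfl e)

theorem tmul_pull_smul {U : Y.Opens} (c : Γ(Y, U)) (t : Γ((Scheme.Modules.pushforward g).obj N, U))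
    (e : Γ(P, U)) :
    InvX.tmul (up g N (c • t)) (QCoh.pullSec g P le_rfl e) =
      InvX.tmul (up g N t) (QCoh.pullSec g P le_rfl (c • e)) := by
  rw [show up g N (c • t) = g.app U c • up g N t from QCoh.pushforward_smul g U c t,
    QCoh.pullSec_smul, InvX.tmul_smul_left, InvX.tmul_smul_right, Scheme.Hom.app_eq_appLE]

theorem res_tmul_pull {U V : Y.Opens} (h : V ≤ U) (t : Γ((Scheme.Modules.pushforward g).obj N, U))
    (e : Γ(P, U)) :
    res (CohB1.tensorMod N ((Scheme.Modules.pullback g).obj P)) (g.preimage_mono h)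
        (InvX.tmul (up g N t) (QCoh.pullSec g P le_rfl e)) =
      InvX.tmul (up g N (res _ h t)) (QCoh.pullSec g P le_rfl (res P h e)) := by
  rw [InvX.res_tmul, PBlow.res_pullSec, PBlow.pullSec_restr]
  rfl

theorem rel_tmul (a : Γ((Scheme.Modules.pushforward g).obj N, ⊤)) (s : Γ(P, ⊤)) :
    Rel g N (InvX.tmul a s) (InvX.tmul (up g N a) (QCoh.pullSec g P le_rfl s)) := by
  intro U e he t ht
  refine (res_tmul_pull g N (le_top : U ≤ ⊤) a s).trans ?_
  obtain ⟨c, hc⟩ := he.exists_coord le_rfl (res P (le_top : U ≤ ⊤) s)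
  rw [res_self] at hc
  rw [hc, ← tmul_pull_smul]
  refine congrArg (fun x => InvX.tmul (up g N x) _) ?_
  refine sub_eq_zero.1 (tmul_frame_inj he ?_)
  rw [← tmulL_apply, map_sub, tmulL_apply, tmulL_apply, sub_eq_zero, InvX.tmul_smul_left,
    ← InvX.tmul_smul_right, ← hc, ← ht, InvX.res_tmul]

variable {g N}

theorem Rel.zero : Rel g N (0 : Γ(CohB1.tensorMod ((Scheme.Modules.pushforward g).obj N) P, ⊤)) 0 := by
  intro U e he t ht
  rw [map_zero] at ht ⊢
  have h0 : t = 0 := tmul_frame_inj he ht.symm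
  subst h0
  exact (map_zero (tmulL (QCoh.pullSec g P le_rfl e))).symm

theorem Rel.add {w w' : Γ(CohB1.tensorMod ((Scheme.Modules.pushforward g).obj N) P, ⊤)}
    {z z' : Γ(CohB1.tensorMod N ((Scheme.Modules.pullback g).obj P), ⊤)} (h : Rel g N w z) (h' : Rel g N w' z') :
    Rel g N (w + w') (z + z') := by
  intro U e he t ht
  obtain ⟨t₁, h₁⟩ := tmul_frame_surj he (res _ (le_top : U ≤ ⊤) w)
  obtain ⟨t₂, h₂⟩ := tmul_frame_surj he (res _ (le_top : U ≤ ⊤) w')
  have h12 : t = t₁ + t₂ := by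
    refine sub_eq_zero.1 (tmul_frame_inj he ?_)
    rw [← tmulL_apply, map_sub, map_add, tmulL_apply, tmulL_apply, tmulL_apply, h₁, h₂, ← ht, map_add, sub_self]
  rw [map_add, h U e he t₁ h₁.symm, h' U e he t₂ h₂.symm, h12]
  exact (map_add (tmulL (QCoh.pullSec g P le_rfl e)) (up g N t₁) (up g N t₂)).symm

theorem Rel.neg {w : Γ(CohB1.tensorMod ((Scheme.Modules.pushforward g).obj N) P, ⊤)}
    {z : Γ(CohB1.tensorMod N ((Scheme.Modules.pullback g).obj P), ⊤)} (h : Rel g N w z) :
    Rel g N (-w) (-z) := by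
  intro U e he t ht
  rw [map_neg] at ht ⊢
  have : res _ (le_top : U ≤ ⊤) w = InvX.tmul (-t) e :=
    ((neg_neg _).symm.trans (congrArg Neg.neg ht)).trans (map_neg (tmulL e) t).symm
  rw [h U e he (-t) this]
  exact ((congrArg Neg.neg (map_neg (tmulL (QCoh.pullSec g P le_rfl e)) (up g N t))).trans (neg_neg _))

theorem Rel.unique (hP : PicF.IsInvertible P) {w : Γ(CohB1.tensorMod ((Scheme.Modules.pushforward g).obj N) P, ⊤)}
    {z z' : Γ(CohB1.tensorMod N ((Scheme.Modules.pullback g).obj P), ⊤)} (h : Rel g N w z) (h' : Rel g N w z') :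
    z = z' := by
  refine eq_of_locally _ _ fun x _ => ?_
  obtain ⟨U, hxU, e, he⟩ := InvX.exists_frame hP (g x)
  obtain ⟨t, ht⟩ := tmul_frame_surj he (res _ (le_top : U ≤ ⊤) w)
  exact ⟨g ⁻¹ᵁ U, le_top, hxU, (h U e he t ht.symm).trans (h' U e he t ht.symm).symm⟩

variable (g N) in
theorem exists_rel (hP : PicF.IsInvertible P) (z : Γ(CohB1.tensorMod N ((Scheme.Modules.pullback g).obj P), ⊤)) :
    ∃ w, Rel g N w z := by
  choose U hyU e he using fun y => InvX.exists_frame hP y
  have hz : ∀ y : Y, ∃ t : Γ((Scheme.Modules.pushforward g).obj N, U y),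
      InvX.tmul (up g N t) (QCoh.pullSec g P le_rfl (e y)) = res _ (le_top : g ⁻¹ᵁ U y ≤ ⊤) z := fun y =>
    tmul_frame_surj (PBlow.isFrame_pullSec g le_rfl (he y)) _
  choose t ht using hz
  obtain ⟨w, hw, -⟩ := existsUnique_glue (M := CohB1.tensorMod ((Scheme.Modules.pushforward g).obj N) P) U
    (fun _ => le_top) (fun y _ => ⟨y, hyU y⟩) (fun y => InvX.tmul (t y) (e y)) fun y y' => by
      rw [InvX.res_tmul, InvX.res_tmul]
      obtain ⟨c, hc⟩ := ((he y).res (inf_le_left : U y ⊓ U y' ≤ U y)).exists_coord le_rfl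
        (res P (inf_le_right : U y ⊓ U y' ≤ U y') (e y'))
      rw [res_self] at hc
      rw [hc, InvX.tmul_smul_right, ← InvX.tmul_smul_left]
      refine congrArg (fun x => InvX.tmul x _) ?_
      have h1 := congrArg (res _ (g.preimage_mono (inf_le_left : U y ⊓ U y' ≤ U y))) (ht y)
      have h2 := congrArg (res _ (g.preimage_mono (inf_le_right : U y ⊓ U y' ≤ U y'))) (ht y')
      rw [res_tmul_pull (h := inf_le_left), res_res] at h1
      rw [res_tmul_pull (h := inf_le_right), res_res] at h2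
      rw [hc, ← tmul_pull_smul] at h2
      exact sub_eq_zero.1 (tmul_frame_inj (PBlow.isFrame_pullSec g le_rfl ((he y).res inf_le_left))
        (((map_sub (tmulL (QCoh.pullSec g P le_rfl (res P (inf_le_left : U y ⊓ U y' ≤ U y) (e y))))
          (up g N _) (up g N _))).trans (sub_eq_zero.2 (h1.trans h2.symm))))
  refine ⟨w, fun V e' he' t' ht' => eq_of_locally _ _ fun x hx => ?_⟩
  let W := V ⊓ U (g x)
  refine ⟨g ⁻¹ᵁ W, g.preimage_mono inf_le_left, ⟨hx, hyU _⟩, ?_⟩
  rw [res_tmul_pull (h := inf_le_left), res_res]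
  have h0 := congrArg (res _ (g.preimage_mono (inf_le_right : W ≤ U (g x)))) (ht (g x))
  rw [res_tmul_pull (h := inf_le_right), res_res] at h0
  rw [← h0]
  obtain ⟨c, hc⟩ := ((he (g x)).res (inf_le_right : W ≤ U (g x))).exists_coord le_rfl
    (res P (inf_le_left : W ≤ V) e')
  rw [res_self] at hc
  rw [hc, ← tmul_pull_smul]
  refine congrArg (fun y => InvX.tmul (up g N y) _) ?_
  refine sub_eq_zero.1 (tmul_frame_inj ((he (g x)).res (inf_le_right : W ≤ U (g x))) ?_)
  rw [← tmulL_apply, map_sub, tmulL_apply, tmulL_apply, sub_eq_zero, InvX.tmul_smul_left,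
    ← InvX.tmul_smul_right, ← hc, ← InvX.res_tmul, ← InvX.res_tmul, ← hw, ← ht', res_res, res_res]

variable (g N) in
/-- If tensors span downstairs then their images span upstairs. -/
theorem span_eq_top (hP : PicF.IsInvertible P)
    (h : span ((Scheme.Modules.pushforward g).obj N) P Set.univ = ⊤) :
    span N ((Scheme.Modules.pullback g).obj P) (Set.range (QCoh.pullSec g P (le_rfl : g ⁻¹ᵁ ⊤ ≤ g ⁻¹ᵁ ⊤))) = ⊤ := by
  refine eq_top_iff.2 fun z _ => ?_
  obtain ⟨w, hw⟩ := exists_rel g N hP z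
  obtain ⟨z', hz', hr⟩ : ∃ z', z' ∈ span N ((Scheme.Modules.pullback g).obj P)
      (Set.range (QCoh.pullSec g P (le_rfl : g ⁻¹ᵁ ⊤ ≤ g ⁻¹ᵁ ⊤))) ∧ Rel g N w z' := by
    have hwm : w ∈ span ((Scheme.Modules.pushforward g).obj N) P Set.univ := h ▸ trivial
    clear hw
    induction hwm using AddSubgroup.closure_induction with
    | mem y hy =>
      obtain ⟨⟨a, s, -⟩, rfl⟩ := hy
      exact ⟨_, AddSubgroup.subset_closure ⟨(up g N a, ⟨_, s, rfl⟩), rfl⟩, rel_tmul g N a s⟩
    | zero => exact ⟨0, zero_mem _, Rel.zero⟩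
    | add a b _ _ ha hb =>
      obtain ⟨za, hza, hra⟩ := ha
      obtain ⟨zb, hzb, hrb⟩ := hb
      exact ⟨za + zb, add_mem hza hzb, hra.add hrb⟩
    | neg a _ ha =>
      obtain ⟨za, hza, hra⟩ := ha
      exact ⟨-za, neg_mem hza, hra.neg⟩
  rwa [hw.unique hP hr]

end Groth.Agent.MulSect
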